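import Mathlib

/-!
# Generic freeness over a Noetherian domain

`FreeAt a M`: some linearly independent family spans `M` up to powers of `a`.
`exists_freeAt`: for a Noetherian domain `D`, a finite type `D`-algebra `B` and a finite `B`-module `M`,
`FreeAt a M` holds for some `a ≠ 0` (induction on the number of variables, filtering by degree in the last one).
-/

universe u

open Polynomial

namespace Groth.GenFree

variable {D : Type u} [CommRing D]

/-- A linearly independent family spanning up to powers of `a`. -/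
def FreeAt (a : D) (M : Type u) [AddCommGroup M] [Module D M] : Prop :=
  ∃ (ι : Type u) (e : ι → M), LinearIndependent D e ∧ ∀ m : M, ∃ n : ℕ, a ^ n • m ∈ Submodule.span D (Set.range e)

theorem FreeAt.mul {a : D} (b : D) {M : Type u} [AddCommGroup M] [Module D M] (h : FreeAt a M) :
    FreeAt (a * b) M := by
  obtain ⟨ι, e, h1, h2⟩ := h
  refine ⟨ι, e, h1, fun m => ?_⟩
  obtain ⟨n, hn⟩ := h2 m
  refine ⟨n, ?_⟩
  rw [mul_pow, mul_comm, mul_smul]
  exact Submodule.smul_mem _ _ hn

theorem FreeAt.of_dvd {a b : D} (hab : a ∣ b) {M : Type u} [AddCommGroup M] [Module D M] (h : FreeAt a M) :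
    FreeAt b M := by
  obtain ⟨c, rfl⟩ := hab
  exact h.mul c

theorem FreeAt.of_linearEquiv {a : D} {M M' : Type u} [AddCommGroup M] [Module D M] [AddCommGroup M'] [Module D M']
    (f : M ≃ₗ[D] M') (h : FreeAt a M) : FreeAt a M' := by
  obtain ⟨ι, e, h1, h2⟩ := h
  refine ⟨ι, f ∘ e, h1.map' f.toLinearMap f.ker, fun m => ?_⟩
  obtain ⟨n, hn⟩ := h2 (f.symm m)
  refine ⟨n, ?_⟩
  have := Submodule.mem_map_of_mem (f := f.toLinearMap) hn
  rw [Submodule.map_span, ← Set.range_comp] at this
  simpa using this

/-- A filtration with quotients free up to powers of `a`. -/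
theorem freeAt_of_chain {a : D} {M : Type u} [AddCommGroup M] [Module D M] (N : ℕ → Submodule D M)
    (hmono : Monotone N) (h0 : N 0 = ⊥) (htop : ∀ m, ∃ k, m ∈ N k) {ι : ℕ → Type u} (e : ∀ j, ι j → M)
    (hmem : ∀ j i, e j i ∈ N (j + 1)) (hli : ∀ j, LinearIndependent D ((N j).mkQ ∘ e j))
    (hspan : ∀ j, ∀ m ∈ N (j + 1), ∃ n : ℕ, a ^ n • m ∈ Submodule.span D (Set.range (e j)) ⊔ N j) :
    FreeAt a M := by
  let f : (Σ j, ι j) → M := fun p => e p.1 p.2
  let s : ℕ → Set (Σ j, ι j) := fun k => {p | p.1 < k}
  have hsN : ∀ k, Submodule.span D (f '' s k) ≤ N k := fun k => Submodule.span_le.mpr <| by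
    rintro _ ⟨⟨j, i⟩, hj, rfl⟩
    exact hmono (Nat.succ_le_of_lt hj) (hmem j i)
  have hs : ∀ k, LinearIndepOn D f (s k) := by
    intro k
    induction k with
    | zero =>
      have : s 0 = ∅ := Set.eq_empty_iff_forall_notMem.mpr fun p hp => Nat.not_lt_zero _ hp
      rw [this]
      exact linearIndepOn_empty D f
    | succ k ih =>
      have : s (k + 1) = s k ∪ Set.range (Sigma.mk k) := by
        ext ⟨j, i⟩
        constructor
        · intro hp
          rcases Nat.lt_succ_iff_lt_or_eq.mp hp with h | h
          · exact Or.inl h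
          · dsimp only at h
            subst h
            exact Or.inr ⟨i, rfl⟩
        · rintro (h | ⟨i', h⟩)
          · exact Nat.lt_succ_of_lt (show j < k from h)
          · cases h
            exact Nat.lt_succ_self _
      rw [this]
      refine ih.union_of_quotient ?_
      rw [linearIndepOn_range_iff sigma_mk_injective]
      exact LinearIndependent.of_comp ((Submodule.span D (f '' s k)).mapQ (N k) LinearMap.id (hsN k)) (hli k)
  refine ⟨Σ j, ι j, f, ?_, ?_⟩
  · rw [← linearIndepOn_univ, show (Set.univ : Set (Σ j, ι j)) = ⋃ k, s k from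
      (Set.eq_univ_of_forall fun p => Set.mem_iUnion.mpr ⟨p.1 + 1, Nat.lt_succ_self _⟩).symm]
    exact linearIndepOn_iUnion_of_directed
      (Monotone.directed_le fun i j hij p hp => lt_of_lt_of_le hp hij) hs
  · have key : ∀ k, ∀ m ∈ N k, ∃ n : ℕ, a ^ n • m ∈ Submodule.span D (Set.range f) := by
      intro k
      induction k with
      | zero =>
        intro m hm
        rw [h0, Submodule.mem_bot] at hm
        exact ⟨0, by simp [hm]⟩
      | succ k ih =>
        intro m hm
        obtain ⟨n, hn⟩ := hspan k m hm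
        obtain ⟨x, hx, y, hy, hxy⟩ := Submodule.mem_sup.mp hn
        obtain ⟨n', hn'⟩ := ih y hy
        refine ⟨n' + n, ?_⟩
        rw [pow_add, mul_smul, ← hxy, smul_add]
        refine add_mem (Submodule.smul_mem _ _ (Submodule.span_mono ?_ hx)) hn'
        rintro _ ⟨i, rfl⟩
        exact ⟨⟨k, i⟩, rfl⟩
    intro m
    obtain ⟨k, hk⟩ := htop m
    exact key k m hk

/-- Generic freeness holds for finite modules over `A`. -/
def Good (D A : Type u) [CommRing D] [CommRing A] [Algebra D A] : Prop :=
  ∀ (M : Type u) [AddCommGroup M] [Module A M] [Module D M] [IsScalarTower D A M] [Module.Finite A M],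
    ∃ a : D, a ≠ 0 ∧ FreeAt a M

theorem good_self (D : Type u) [CommRing D] [IsDomain D] : Good D D := by
  intro M _ instA instD _ _
  have hmod : ∀ (c : D) (m : M), (@HSMul.hSMul D M M (@instHSMul D M instD.toSMul) c m) =
      @HSMul.hSMul D M M (@instHSMul D M instA.toSMul) c m := by
    intro c m
    have h := @IsScalarTower.smul_assoc D D M _ instA.toSMul instD.toSMul ‹_› c (1 : D) m
    have h1 : @HSMul.hSMul D M M (@instHSMul D M instA.toSMul) (1 : D) m = m := @one_smul D M _ instA.toMulAction m
    rw [h1] at h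
    rw [← h, smul_eq_mul, mul_one]
  obtain rfl : instD = instA := Module.ext' _ _ hmod
  classical
  obtain ⟨s, hs⟩ := (Module.Finite.fg_top : (⊤ : Submodule D M).FG)
  obtain ⟨t, hli, hmax⟩ := exists_maximal_linearIndepOn D ((↑) : ↥(s : Set M) → M)
  have : ∀ i : (s : Set M), ∃ c : D, c ≠ 0 ∧ c • (i : M) ∈ Submodule.span D (Subtype.val '' t) := fun i => by
    by_cases hi : i ∈ t
    · exact ⟨1, one_ne_zero, by rw [one_smul]; exact Submodule.subset_span ⟨i, hi, rfl⟩⟩
    · exact hmax i hi
  choose c hc hcs using this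
  haveI : Fintype (s : Set M) := FinsetCoe.fintype s
  refine ⟨∏ i, c i, Finset.prod_ne_zero_iff.mpr fun i _ => hc i, t, fun i => ((i : (s : Set M)) : M), hli, fun m => ⟨1, ?_⟩⟩
  have hrange : Set.range (fun i : t => ((i : (s : Set M)) : M)) = Subtype.val '' t := by
    ext x
    simp
  rw [pow_one, hrange]
  have hm : m ∈ Submodule.span D (s : Set M) := by rw [hs]; trivial
  induction hm using Submodule.span_induction with
  | zero => simp
  | add x y _ _ hx hy => rw [smul_add]; exact add_mem hx hy
  | smul r x _ hx => rw [smul_comm]; exact Submodule.smul_mem _ _ hx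
  | mem x hx =>
    obtain ⟨d, hd⟩ := Finset.dvd_prod_of_mem c (Finset.mem_univ (⟨x, hx⟩ : (s : Set M)))
    rw [hd, mul_comm, mul_smul]
    exact Submodule.smul_mem _ _ (hcs ⟨x, hx⟩)

theorem Good.of_surjective {A B : Type u} [CommRing A] [CommRing B] [Algebra D A] [Algebra D B]
    (φ : A →ₐ[D] B) (hφ : Function.Surjective φ) (h : Good D A) : Good D B := by
  intro M _ _ _ _ _
  letI : Module A M := Module.compHom M φ.toRingHom
  haveI : IsScalarTower D A M := IsScalarTower.of_algebraMap_smul fun d m => by
    show φ (algebraMap D A d) • m = d • m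
    rw [AlgHom.commutes, algebraMap_smul]
  haveI : Module.Finite A M := by
    letI : Algebra A B := φ.toRingHom.toAlgebra
    haveI : IsScalarTower A B M := IsScalarTower.of_algebraMap_smul fun _ _ => rfl
    haveI : Module.Finite A B := Module.Finite.of_surjective (Algebra.linearMap A B) hφ
    exact Module.Finite.trans B M
  exact h M

/-- The inductive step: one more variable. -/
theorem Good.polynomial [IsDomain D] {A : Type u} [CommRing A] [IsNoetherianRing A] [Algebra D A] (h : Good D A) :
    Good D A[X] := by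
  intro M _ _ _ _ _
  classical
  letI : Module A M := Module.compHom M (Polynomial.C : A →+* A[X])
  haveI : IsScalarTower A A[X] M := IsScalarTower.of_algebraMap_smul fun _ _ => rfl
  haveI : IsScalarTower D A M := IsScalarTower.of_algebraMap_smul fun d m => by
    show Polynomial.C (algebraMap D A d) • m = d • m
    rw [← Polynomial.algebraMap_apply, algebraMap_smul]
  obtain ⟨G, hG⟩ := (Module.Finite.fg_top : (⊤ : Submodule A[X] M).FG)
  let L : Submodule A M := Submodule.span A (G : Set M)
  haveI : Module.Finite A L := ⟨(Submodule.fg_top _).mpr ⟨G, rfl⟩⟩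
  haveI : IsNoetherian A L := isNoetherian_of_isNoetherianRing_of_finite A L
  let μ : ℕ → M →ₗ[A] M := fun j => (LinearMap.lsmul A[X] M ((X : A[X]) ^ j)).restrictScalars A
  let W : ℕ → Submodule A M := fun k => ⨆ i ∈ Finset.range k, L.map (μ i)
  have hWmono : Monotone W := fun k l hkl => biSup_mono fun i hi =>
    Finset.mem_range.mpr (lt_of_lt_of_le (Finset.mem_range.mp hi) hkl)
  have hWsucc : ∀ k, W (k + 1) = W k ⊔ L.map (μ k) := fun k => by
    show (⨆ i ∈ Finset.range (k + 1), L.map (μ i)) = _
    rw [Finset.range_add_one, Finset.iSup_insert, sup_comm]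
  have hmemW : ∀ j, ∀ v ∈ L, (X : A[X]) ^ j • v ∈ W (j + 1) := fun j v hv => by
    rw [hWsucc]
    exact Submodule.mem_sup_right ⟨v, hv, rfl⟩
  have hX : ∀ k, ∀ m ∈ W k, (X : A[X]) • m ∈ W (k + 1) := by
    intro k
    induction k with
    | zero =>
      intro m hm
      simp only [W, Finset.range_zero, Submodule.mem_bot, Finset.notMem_empty,
        iSup_false, iSup_bot] at hm
      rw [hm, smul_zero]
      exact zero_mem _
    | succ k ih =>
      intro m hm
      rw [hWsucc] at hm
      obtain ⟨x, hx, y, ⟨v, hv, rfl⟩, rfl⟩ := Submodule.mem_sup.mp hm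
      rw [smul_add]
      refine add_mem (hWmono (Nat.le_succ _) (ih x hx)) ?_
      show (X : A[X]) • ((X : A[X]) ^ k • v) ∈ _
      rw [smul_smul, ← pow_succ']
      exact hmemW (k + 1) v hv
  let Wtop : Submodule A[X] M :=
    { carrier := {m | ∃ k, m ∈ W k}
      zero_mem' := ⟨0, zero_mem _⟩
      add_mem' := fun {x y} hx hy => by
        obtain ⟨k, hk⟩ := hx
        obtain ⟨l, hl⟩ := hy
        exact ⟨max k l, add_mem (hWmono (le_max_left k l) hk) (hWmono (le_max_right k l) hl)⟩
      smul_mem' := fun p m hm => by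
        induction p using Polynomial.induction_on with
        | C c =>
          obtain ⟨k, hk⟩ := hm
          exact ⟨k, (W k).smul_mem c hk⟩
        | add p q hp hq =>
          obtain ⟨k, hk⟩ := hp
          obtain ⟨l, hl⟩ := hq
          refine ⟨max k l, ?_⟩
          rw [add_smul]
          exact add_mem (hWmono (le_max_left k l) hk) (hWmono (le_max_right k l) hl)
        | monomial n c hc =>
          obtain ⟨k, hk⟩ := hc
          refine ⟨k + 1, ?_⟩
          rw [show Polynomial.C c * X ^ (n + 1) = X * (Polynomial.C c * X ^ n) by ring, mul_smul]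
          exact hX k _ hk }
  have htop : ∀ m, ∃ k, m ∈ W k := fun m => by
    have : (⊤ : Submodule A[X] M) ≤ Wtop := by
      rw [← hG]
      exact Submodule.span_le.mpr fun g hg => ⟨1, by
        have h := hmemW 0 g (Submodule.subset_span hg)
        rwa [pow_zero, one_smul] at h⟩
    exact this (Submodule.mem_top (x := m))
  let φ : ∀ j, L →ₗ[A] M ⧸ W j := fun j => (W j).mkQ.comp ((μ j).comp L.subtype)
  have hker : Monotone fun j => LinearMap.ker (φ j) := monotone_nat_of_le_succ fun j v hv => by
    rw [LinearMap.mem_ker] at hv ⊢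
    have h1 : (X : A[X]) ^ j • (v : M) ∈ W j := (Submodule.Quotient.mk_eq_zero _).mp hv
    refine (Submodule.Quotient.mk_eq_zero _).mpr ?_
    show (X : A[X]) ^ (j + 1) • (v : M) ∈ W (j + 1)
    rw [pow_succ', mul_smul]
    exact hX j _ h1
  obtain ⟨j₀, hj₀⟩ := monotone_stabilizes_iff_noetherian.mpr (inferInstance : IsNoetherian A L)
    ⟨fun j => LinearMap.ker (φ j), hker⟩
  have hj₀' : ∀ j, LinearMap.ker (φ j) = LinearMap.ker (φ (min j j₀)) := fun j => by
    rcases le_total j j₀ with hj | hj
    · rw [min_eq_left hj]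
    · rw [min_eq_right hj]
      exact (hj₀ j hj).symm
  choose a ha ι e hli hsp using fun j : Fin (j₀ + 1) => h (L ⧸ LinearMap.ker (φ j))
  choose v hv using fun (j : Fin (j₀ + 1)) (i : ι j) => Submodule.Quotient.mk_surjective _ (e j i)
  let aTot : D := ∏ j, a j
  let idx : ℕ → Fin (j₀ + 1) := fun j => ⟨min j j₀, Nat.lt_succ_of_le (min_le_right _ _)⟩
  refine ⟨aTot, Finset.prod_ne_zero_iff.mpr fun j _ => ha j,
    freeAt_of_chain (fun k => (W k).restrictScalars D) (fun k l hkl => hWmono hkl) ?_ htop
      (ι := fun j => ι (idx j)) (fun j i => (X : A[X]) ^ j • (v (idx j) i : M))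
      (fun j i => hmemW j _ (v (idx j) i).2) (fun j => ?_) (fun j m hm => ?_)⟩
  · simp [W]
  · -- independence modulo `W j`
    rw [linearIndependent_iff]
    intro l hl
    refine linearIndependent_iff.mp (hli (idx j)) l ?_
    have h1 : Finsupp.linearCombination D (fun i => (X : A[X]) ^ j • (v (idx j) i : M)) l ∈ W j := by
      rw [Finsupp.linearCombination_apply, Finsupp.sum, ← Submodule.restrictScalars_mem D,
        ← Submodule.Quotient.mk_eq_zero]
      rw [Finsupp.linearCombination_apply, Finsupp.sum] at hl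
      simp only [Function.comp_apply] at hl
      rw [← Submodule.mkQ_apply, map_sum]
      simpa using hl
    have h2 : (Finsupp.linearCombination D (v (idx j)) l : L) ∈ LinearMap.ker (φ (idx j).1) := by
      show _ ∈ LinearMap.ker (φ (min j j₀))
      rw [← hj₀' j, LinearMap.mem_ker]
      refine (Submodule.Quotient.mk_eq_zero _).mpr ?_
      show (X : A[X]) ^ j • ((Finsupp.linearCombination D (v (idx j)) l : L) : M) ∈ W j
      convert h1 using 1
      simp only [Finsupp.linearCombination_apply, Finsupp.sum, AddSubmonoidClass.coe_finsetSum, Finset.smul_sum,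
        Submodule.coe_smul_of_tower]
      exact Finset.sum_congr rfl fun i _ => smul_comm _ _ _
    rw [← (Submodule.Quotient.mk_eq_zero (LinearMap.ker (φ (idx j).1))).mpr h2]
    simp only [Finsupp.linearCombination_apply, Finsupp.sum, ← Submodule.mkQ_apply, map_sum]
    exact Finset.sum_congr rfl fun i _ => by
      rw [← hv (idx j) i]; exact (Submodule.Quotient.mk_smul _ _ _).symm
  · -- spanning
    have hm' : m ∈ W j ⊔ L.map (μ j) := by rw [← hWsucc]; exact hm
    obtain ⟨w, hw, y, ⟨x, hx, rfl⟩, rfl⟩ := Submodule.mem_sup.mp hm'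
    obtain ⟨n, hn⟩ := hsp (idx j) (Submodule.Quotient.mk ⟨x, hx⟩)
    obtain ⟨c, hc⟩ := Finsupp.mem_span_range_iff_exists_finsupp.mp hn
    have h2 : (a (idx j)) ^ n • (⟨x, hx⟩ : L) - c.sum (fun i r => r • v (idx j) i) ∈
        LinearMap.ker (φ (idx j).1) := by
      rw [← Submodule.Quotient.mk_eq_zero, Submodule.Quotient.mk_sub, Submodule.Quotient.mk_smul, ← hc,
        Finsupp.sum, Finsupp.sum, ← Submodule.mkQ_apply, map_sum, sub_eq_zero]
      exact Finset.sum_congr rfl fun i _ => by
        rw [← hv (idx j) i]; exact (Submodule.Quotient.mk_smul _ _ _).symm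
    rw [show ((idx j).1) = min j j₀ from rfl, ← hj₀' j, LinearMap.mem_ker] at h2
    have h3 := (Submodule.Quotient.mk_eq_zero _).mp h2
    have h4 : (X : A[X]) ^ j • ((a (idx j)) ^ n • x - c.sum fun i r => r • (v (idx j) i : M)) ∈ W j := by
      convert h3 using 1
      simp [μ, Finsupp.sum]
    have h5 : (a (idx j)) ^ n • (w + μ j x) ∈
        Submodule.span D (Set.range fun i => (X : A[X]) ^ j • (v (idx j) i : M)) ⊔ (W j).restrictScalars D := by
      rw [smul_add]
      refine add_mem (Submodule.mem_sup_right ((W j).smul_of_tower_mem _ hw)) ?_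
      show (a (idx j)) ^ n • ((X : A[X]) ^ j • x) ∈ _
      rw [smul_comm, ← sub_add_cancel ((a (idx j)) ^ n • x) (c.sum fun i r => r • (v (idx j) i : M)), smul_add]
      refine add_mem (Submodule.mem_sup_right h4) (Submodule.mem_sup_left ?_)
      rw [Finsupp.sum, Finset.smul_sum]
      exact Submodule.sum_mem _ fun i _ => by
        rw [smul_comm]; exact Submodule.smul_mem _ _ (Submodule.subset_span ⟨i, rfl⟩)
    refine ⟨n, ?_⟩
    obtain ⟨d, hd⟩ := Finset.dvd_prod_of_mem a (Finset.mem_univ (idx j))
    rw [show aTot = a (idx j) * d from hd, mul_pow, mul_comm, mul_smul]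
    exact Submodule.smul_mem _ _ h5

theorem good_mvPolynomial (D : Type u) [CommRing D] [IsDomain D] [IsNoetherianRing D] :
    ∀ n, Good D (MvPolynomial (Fin n) D)
  | 0 => Good.of_surjective (MvPolynomial.isEmptyAlgEquiv D (Fin 0)).symm.toAlgHom
      (MvPolynomial.isEmptyAlgEquiv D (Fin 0)).symm.surjective (good_self D)
  | n + 1 => Good.of_surjective (MvPolynomial.finSuccEquiv D n).symm.toAlgHom
      (MvPolynomial.finSuccEquiv D n).symm.surjective (good_mvPolynomial D n).polynomial

/-- **Generic freeness** over a Noetherian domain. -/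
theorem exists_freeAt (D : Type u) [CommRing D] [IsDomain D] [IsNoetherianRing D] {B : Type u} [CommRing B]
    [Algebra D B] [Algebra.FiniteType D B] (M : Type u) [AddCommGroup M] [Module B M] [Module D M]
    [IsScalarTower D B M] [Module.Finite B M] : ∃ a : D, a ≠ 0 ∧ FreeAt a M := by
  obtain ⟨n, f, hf⟩ := Algebra.FiniteType.iff_quotient_mvPolynomial''.mp ‹Algebra.FiniteType D B›
  exact Good.of_surjective f hf (good_mvPolynomial D n) M

end Groth.GenFree
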