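import Mathlib
import Groth.Agent.GenFree.Basic

/-!
# Free up to powers of `a`: localisation, base change, torsion quotients
-/

universe u

open TensorProduct

namespace Groth.GenFree

variable {D : Type u} [CommRing D]

/-- The localisation at `a` is free. -/
theorem exists_basis_of_freeAt {a : D} {M : Type u} [AddCommGroup M] [Module D M] {ι : Type u} {e : ι → M}
    (hli : LinearIndependent D e) (hsp : ∀ m : M, ∃ n : ℕ, a ^ n • m ∈ Submodule.span D (Set.range e))
    (Da : Type u) [CommRing Da] [Algebra D Da] [IsLocalization.Away a Da] {M' : Type u} [AddCommGroup M']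
    [Module D M'] [Module Da M'] [IsScalarTower D Da M'] (f : M →ₗ[D] M')
    [IsLocalizedModule (Submonoid.powers a) f] : ∃ b : Module.Basis ι Da M', ∀ i, b i = f (e i) := by
  have hspan : (⊤ : Submodule Da M') ≤ Submodule.span Da (Set.range (f ∘ e)) := by
    intro y _
    obtain ⟨⟨m, ⟨_, k, rfl⟩⟩, hy⟩ := IsLocalizedModule.surj (Submonoid.powers a) f y
    obtain ⟨n, hn⟩ := hsp m
    have h1 : f (a ^ n • m) ∈ Submodule.span Da (Set.range (f ∘ e)) := by
      refine Submodule.span_le_restrictScalars D Da _ ?_
      rw [Set.range_comp, ← Submodule.map_span]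
      exact Submodule.mem_map_of_mem hn
    rw [map_smul, ← show a ^ k • y = f m from hy, smul_smul, ← pow_add, ← algebraMap_smul Da] at h1
    have hu : IsUnit (algebraMap D Da (a ^ (n + k))) :=
      IsLocalization.map_units Da (⟨a ^ (n + k), n + k, rfl⟩ : Submonoid.powers a)
    obtain ⟨u, hu⟩ := hu
    rw [← hu] at h1
    have := Submodule.smul_mem _ ((u⁻¹ : Daˣ) : Da) h1
    rwa [smul_smul, Units.inv_mul, one_smul] at this
  exact ⟨Module.Basis.mk (hli.of_isLocalizedModule Da (Submonoid.powers a) f) hspan, fun i => by simp⟩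

theorem FreeAt.free {a : D} {M : Type u} [AddCommGroup M] [Module D M] (h : FreeAt a M) (Da : Type u) [CommRing Da]
    [Algebra D Da] [IsLocalization.Away a Da] {M' : Type u} [AddCommGroup M'] [Module D M'] [Module Da M']
    [IsScalarTower D Da M'] (f : M →ₗ[D] M') [IsLocalizedModule (Submonoid.powers a) f] : Module.Free Da M' := by
  obtain ⟨ι, e, h1, h2⟩ := h
  obtain ⟨b, -⟩ := exists_basis_of_freeAt h1 h2 Da f
  exact Module.Free.of_basis b

/-- Base change along an injective map into a domain. -/
theorem FreeAt.baseChange {a : D} {M : Type u} [AddCommGroup M] [Module D M] (h : FreeAt a M) (ha : a ≠ 0)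
    (R : Type u) [CommRing R] [IsDomain R] [Algebra D R] (hinj : Function.Injective (algebraMap D R)) :
    FreeAt (algebraMap D R a) (R ⊗[D] M) := by
  obtain ⟨ι, e, h1, h2⟩ := h
  classical
  refine ⟨ι, fun i => 1 ⊗ₜ e i, ?_, ?_⟩
  · let K := FractionRing R
    let Da := Localization.Away a
    have hu : IsUnit (algebraMap D K a) := by
      rw [isUnit_iff_ne_zero, IsScalarTower.algebraMap_apply D R K]
      exact (map_ne_zero_iff _ (IsFractionRing.injective R K)).mpr ((map_ne_zero_iff _ hinj).mpr ha)
    letI : Algebra Da K := (IsLocalization.Away.lift (g := algebraMap D K) a hu).toAlgebra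
    haveI : IsScalarTower D Da K :=
      IsScalarTower.of_algebraMap_eq fun d => (IsLocalization.Away.lift_eq a hu d).symm
    let f := LocalizedModule.mkLinearMap (Submonoid.powers a) M
    obtain ⟨b, hb⟩ := exists_basis_of_freeAt h1 h2 Da f
    let ψ : M →ₗ[D] (ι →₀ K) :=
      ((b.constr D fun i => Finsupp.single i (1 : K)).restrictScalars D).comp f
    have hψ : ∀ i, ψ (e i) = Finsupp.single i 1 := fun i => by
      show (b.constr D fun i => Finsupp.single i (1 : K)) (f (e i)) = _
      rw [← hb i, Module.Basis.constr_basis]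
    refine LinearIndependent.of_comp (ψ.liftBaseChange R) ?_
    rw [linearIndependent_iff]
    intro l hl
    ext i
    have h := DFunLike.congr_fun hl i
    simp only [Finsupp.linearCombination_apply, Finsupp.sum, Function.comp_apply, LinearMap.liftBaseChange_tmul,
      one_smul, hψ, Finsupp.coe_finsetSum, Finset.sum_apply, Finsupp.smul_apply, Finsupp.single_apply,
      Finsupp.coe_zero, Pi.zero_apply, smul_ite, smul_zero, Finset.sum_ite_eq', Finsupp.mem_support_iff] at h
    by_contra hi
    rw [if_pos (show l i ≠ 0 from hi), ← Algebra.algebraMap_eq_smul_one] at h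
    exact hi ((map_eq_zero_iff _ (IsFractionRing.injective R K)).mp h)
  · intro z
    induction z with
    | zero => exact ⟨0, by simp⟩
    | tmul r m =>
      obtain ⟨n, hn⟩ := h2 m
      refine ⟨n, ?_⟩
      rw [← map_pow, algebraMap_smul, ← TensorProduct.tmul_smul]
      generalize a ^ n • m = x at hn ⊢
      induction hn using Submodule.span_induction with
      | zero => simp
      | add x y _ _ hx hy => rw [TensorProduct.tmul_add]; exact add_mem hx hy
      | smul d x _ hx =>
        rw [TensorProduct.tmul_smul, ← algebraMap_smul R]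
        exact Submodule.smul_mem _ _ hx
      | mem x hx =>
        obtain ⟨i, rfl⟩ := hx
        have : r ⊗ₜ[D] e i = r • ((1 : R) ⊗ₜ[D] e i) := by rw [smul_tmul', smul_eq_mul, mul_one]
        rw [this]
        exact Submodule.smul_mem _ _ (Submodule.subset_span ⟨i, rfl⟩)
    | add x y hx hy =>
      obtain ⟨n, hn⟩ := hx
      obtain ⟨m, hm⟩ := hy
      refine ⟨m + n, ?_⟩
      rw [smul_add]
      refine add_mem ?_ ?_
      · rw [pow_add, mul_smul]; exact Submodule.smul_mem _ _ hn
      · rw [pow_add, mul_comm, mul_smul]; exact Submodule.smul_mem _ _ hm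

/-- Surjections whose kernel is torsion: the free locus is the same. -/
theorem FreeAt.of_torsion_ker [IsDomain D] {a : D} {M M' : Type u} [AddCommGroup M] [Module D M] [AddCommGroup M']
    [Module D M'] (h : FreeAt a M) (π : M →ₗ[D] M') (hπ : Function.Surjective π)
    (hker : ∀ x, π x = 0 → ∃ c : D, c ≠ 0 ∧ c • x = 0) :
    FreeAt a M' ∧ ∀ x, π x = 0 → ∃ n : ℕ, a ^ n • x = 0 := by
  obtain ⟨ι, e, h1, h2⟩ := h
  have key : ∀ x ∈ Submodule.span D (Set.range e), π x = 0 → x = 0 := by
    intro x hx hx0
    obtain ⟨c, hc, hcx⟩ := hker x hx0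
    obtain ⟨l, rfl⟩ := Finsupp.mem_span_range_iff_exists_finsupp.mp hx
    have : Finsupp.linearCombination D e (c • l) = 0 := by
      rw [map_smul, Finsupp.linearCombination_apply]; exact hcx
    have hl := linearIndependent_iff.mp h1 _ this
    rw [smul_eq_zero] at hl
    rw [hl.resolve_left hc]
    simp
  refine ⟨⟨ι, π ∘ e, ?_, fun m' => ?_⟩, fun x hx => ?_⟩
  · rw [linearIndependent_iff]
    intro l hl
    refine linearIndependent_iff.mp h1 l (key _ ?_ ?_)
    · exact Finsupp.mem_span_range_iff_exists_finsupp.mpr ⟨l, (Finsupp.linearCombination_apply D l).symm⟩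
    · rw [← hl, Finsupp.linearCombination_apply, Finsupp.linearCombination_apply]
      simp [Finsupp.sum, map_sum]
  · obtain ⟨m, rfl⟩ := hπ m'
    obtain ⟨n, hn⟩ := h2 m
    refine ⟨n, ?_⟩
    rw [Set.range_comp, ← Submodule.map_span, ← map_smul]
    exact Submodule.mem_map_of_mem hn
  · obtain ⟨n, hn⟩ := h2 x
    exact ⟨n, key _ hn (by rw [map_smul, hx, smul_zero])⟩

/-- A surjection with kernel killed by powers of the elements of `S` localises to an isomorphism. -/
theorem isLocalizedModule_comp_of_surjective {P : Type u} [CommRing P] (S : Submonoid P) {M M' N : Type u}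
    [AddCommGroup M] [Module P M] [AddCommGroup M'] [Module P M'] [AddCommGroup N] [Module P N] (π : M →ₗ[P] M')
    (hπ : Function.Surjective π) (hker : ∀ x, π x = 0 → ∃ s : S, s • x = 0) (g : M' →ₗ[P] N)
    [IsLocalizedModule S g] : IsLocalizedModule S (g.comp π) := by
  constructor
  · exact fun s => IsLocalizedModule.map_units g s
  · intro y
    obtain ⟨⟨m', s⟩, hy⟩ := IsLocalizedModule.surj S g y
    obtain ⟨m, rfl⟩ := hπ m'
    exact ⟨(m, s), hy⟩
  · intro x₁ x₂ h
    obtain ⟨c, hc⟩ := IsLocalizedModule.exists_of_eq (S := S) (f := g) h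
    obtain ⟨s, hs⟩ := hker ((c : P) • (x₁ - x₂)) (by rw [map_smul, map_sub, smul_sub, sub_eq_zero]; exact hc)
    refine ⟨s * c, ?_⟩
    rw [Submonoid.smul_def, Submonoid.smul_def, Submonoid.coe_mul, mul_smul, mul_smul, ← sub_eq_zero, ← smul_sub,
      ← smul_sub]
    exact hs

end Groth.GenFree
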