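import Mathlib
import Groth.Agent.GenFree.Free
import Groth.Agent.FlatDescent.Colimit

/-!
# Generic freeness over an arbitrary domain

`exists_freeAt_quotient`: for a domain `R` and any submodule `N` of `R[x]^k`, after inverting some `a ≠ 0` the quotient
is free and `N` is generated by finitely many elements.
`exists_freeAt_domain`: for finite modules over finite type algebras, with finite presentation.
-/

universe u

open Groth.FlatDescent MvPolynomial

namespace Groth.GenFree

variable {R : Type u} [CommRing R] [IsDomain R]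

/-- Up to torsion, a submodule of `R[x]^k` is finitely generated. -/
theorem exists_fg_torsion {σ κ : Type} [Finite σ] [Finite κ]
    (N : Submodule (MvPolynomial σ R) (κ → MvPolynomial σ R)) :
    ∃ N₀ : Submodule (MvPolynomial σ R) (κ → MvPolynomial σ R), N₀.FG ∧ N₀ ≤ N ∧
      ∀ x ∈ N, ∃ c : R, c ≠ 0 ∧ c • x ∈ N₀ := by
  classical
  let K := FractionRing R
  let φ := algebraMap R K
  have hφ : Function.Injective φ := IsFractionRing.injective R K
  obtain ⟨t, ht, hspan⟩ : ∃ t : Finset (κ → MvPolynomial σ K), (t : Set (κ → MvPolynomial σ K)) ⊆ mapF φ '' (N : Set (κ → MvPolynomial σ R)) ∧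
      Submodule.span (MvPolynomial σ K) (mapF φ '' (N : Set (κ → MvPolynomial σ R))) =
        Submodule.span (MvPolynomial σ K) t := by
    obtain ⟨t, ht, h⟩ := (Submodule.fg_span_iff_fg_span_finset_subset _).mp
      (IsNoetherian.noetherian (Submodule.span (MvPolynomial σ K) (mapF φ '' (N : Set (κ → MvPolynomial σ R)))))
    exact ⟨t, ht, h⟩
  choose! pre hpre hpre' using fun v (hv : v ∈ t) => ht hv
  let N₀ := Submodule.span (MvPolynomial σ R) (pre '' t)
  refine ⟨N₀, Submodule.fg_span (t.finite_toSet.image _), Submodule.span_le.mpr ?_, fun x hx => ?_⟩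
  · rintro _ ⟨v, hv, rfl⟩
    exact hpre v hv
  · have h : mapF φ x ∈ Submodule.span (MvPolynomial σ K) (t : Set (κ → MvPolynomial σ K)) :=
      hspan ▸ Submodule.subset_span ⟨x, hx, rfl⟩
    have hsm : ∀ (r : R) (z : κ → MvPolynomial σ R), mapF φ (r • z) = φ r • mapF φ z := fun r z => by
      funext i
      simp [MvPolynomial.smul_eq_C_mul]
    -- clear denominators
    have key : ∀ y ∈ Submodule.span (MvPolynomial σ K) (t : Set (κ → MvPolynomial σ K)),
        ∃ c : R, c ≠ 0 ∧ ∃ z ∈ N₀, mapF φ z = φ c • y := by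
      intro y hy
      induction hy using Submodule.span_induction with
      | mem v hv => exact ⟨1, one_ne_zero, pre v, Submodule.subset_span ⟨v, hv, rfl⟩, by rw [hpre' v hv, map_one, one_smul]⟩
      | zero => exact ⟨1, one_ne_zero, 0, zero_mem _, by simp⟩
      | add y y' _ _ hy hy' =>
        obtain ⟨c, hc, z, hz, e⟩ := hy
        obtain ⟨c', hc', z', hz', e'⟩ := hy'
        refine ⟨c * c', mul_ne_zero hc hc', c' • z + c • z',
          add_mem (N₀.smul_of_tower_mem _ hz) (N₀.smul_of_tower_mem _ hz'), ?_⟩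
        rw [map_add, hsm, hsm, e, e', smul_smul, smul_smul, ← map_mul, ← map_mul, smul_add, mul_comm c' c]
      | smul p y _ hy =>
        obtain ⟨c, hc, z, hz, e⟩ := hy
        induction p using MvPolynomial.induction_on' with
        | monomial d a =>
          obtain ⟨⟨r, s⟩, hrs⟩ := IsLocalization.surj (nonZeroDivisors R) a
          refine ⟨s * c, mul_ne_zero (nonZeroDivisors.ne_zero s.2) hc, (monomial d r : MvPolynomial σ R) • z,
            N₀.smul_mem _ hz, ?_⟩
          rw [mapF_smul, e, map_monomial, smul_comm, map_mul, mul_smul, smul_comm (φ (s : R)) (φ c)]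
          congr 1
          rw [← smul_assoc, smul_monomial, smul_eq_mul, mul_comm, hrs]
        | add p q hp hq =>
          obtain ⟨c₁, hc₁, z₁, hz₁, e₁⟩ := hp
          obtain ⟨c₂, hc₂, z₂, hz₂, e₂⟩ := hq
          refine ⟨c₁ * c₂, mul_ne_zero hc₁ hc₂, c₂ • z₁ + c₁ • z₂,
            add_mem (N₀.smul_of_tower_mem _ hz₁) (N₀.smul_of_tower_mem _ hz₂), ?_⟩
          rw [map_add, hsm, hsm, e₁, e₂, smul_smul, smul_smul, ← map_mul, ← map_mul, add_smul, smul_add,
            mul_comm c₂ c₁]
    obtain ⟨c, hc, z, hz, e⟩ := key _ h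
    refine ⟨c, hc, ?_⟩
    have : c • x = z := mapF_injective hφ (by rw [e, hsm])
    rw [this]
    exact hz

/-- **Generic freeness**, presented form. -/
theorem exists_freeAt_quotient {σ κ : Type} [Finite σ] [Finite κ]
    (N : Submodule (MvPolynomial σ R) (κ → MvPolynomial σ R)) :
    ∃ a : R, a ≠ 0 ∧ FreeAt a ((κ → MvPolynomial σ R) ⧸ N) ∧
      ∃ N₀ : Submodule (MvPolynomial σ R) (κ → MvPolynomial σ R), N₀.FG ∧ N₀ ≤ N ∧
        ∀ x ∈ N, ∃ n : ℕ, a ^ n • x ∈ N₀ := by
  obtain ⟨N₀, hN₀, hle, htor⟩ := exists_fg_torsion N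
  obtain ⟨A₀, hA₀, N₀₀, hbase, -⟩ := exists_finite_type_model hN₀
  haveI : Algebra.FiniteType ℤ A₀ := ⟨A₀.fg_top.mpr hA₀⟩
  haveI : IsNoetherianRing A₀ := Algebra.FiniteType.isNoetherianRing ℤ A₀
  obtain ⟨a₀, ha₀, hfree⟩ := exists_freeAt A₀ (B := MvPolynomial σ A₀) ((κ → MvPolynomial σ A₀) ⧸ N₀₀)
  obtain ⟨e⟩ := baseNEquiv (R := R) N₀₀
  have hfree' : FreeAt (a₀ : R) ((κ → MvPolynomial σ R) ⧸ N₀) := by
    have h := (hfree.baseChange ha₀ R Subtype.val_injective).of_linearEquiv e.symm
    rw [show algebraMap A₀ R = A₀.val.toRingHom from rfl, hbase] at h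
    exact h
  have ha : (a₀ : R) ≠ 0 := fun h => ha₀ (Subtype.ext h)
  let π : ((κ → MvPolynomial σ R) ⧸ N₀) →ₗ[R] (κ → MvPolynomial σ R) ⧸ N :=
    (Submodule.factor hle).restrictScalars R
  obtain ⟨h1, h2⟩ := hfree'.of_torsion_ker π (Submodule.factor_surjective hle) fun x hx => by
    obtain ⟨x, rfl⟩ := Submodule.Quotient.mk_surjective _ x
    obtain ⟨c, hc, hcx⟩ := htor x ((Submodule.Quotient.mk_eq_zero N).mp hx)
    exact ⟨c, hc, by rw [← Submodule.Quotient.mk_smul, Submodule.Quotient.mk_eq_zero]; exact hcx⟩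
  refine ⟨a₀, ha, h1, N₀, hN₀, hle, fun x hx => ?_⟩
  obtain ⟨n, hn⟩ := h2 (Submodule.Quotient.mk x) ((Submodule.Quotient.mk_eq_zero N).mpr hx)
  exact ⟨n, (Submodule.Quotient.mk_eq_zero N₀).mp (by rw [Submodule.Quotient.mk_smul]; exact hn)⟩

/-- **Generic freeness** for a finite module over a finite type algebra over a domain: a finitely presented module
over the algebra, free after inverting `a`, with the same localisation. -/
theorem exists_freeAt_domain (S : Type u) [CommRing S] [Algebra R S] [Algebra.FiniteType R S] (M : Type u)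
    [AddCommGroup M] [Module S M] [Module R M] [IsScalarTower R S M] [Module.Finite S M] :
    ∃ a : R, a ≠ 0 ∧ FreeAt a M ∧ ∃ (k : ℕ) (N₁ : Submodule S (Fin k → S)) (π : (Fin k → S) →ₗ[S] M),
      N₁.FG ∧ N₁ ≤ LinearMap.ker π ∧ Function.Surjective π ∧ ∀ x, π x = 0 → ∃ n : ℕ, a ^ n • x ∈ N₁ := by
  obtain ⟨σn, g, hg⟩ := Algebra.FiniteType.iff_quotient_mvPolynomial''.mp ‹Algebra.FiniteType R S›
  obtain ⟨k, π, hπ⟩ := Module.Finite.exists_fin' S M
  let P := MvPolynomial (Fin σn) R
  letI : Algebra P S := g.toRingHom.toAlgebra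
  haveI : IsScalarTower R P S := IsScalarTower.of_algebraMap_eq fun r => (g.commutes r).symm
  let q : (Fin k → P) →ₗ[P] (Fin k → S) := (Algebra.linearMap P S).compLeft (Fin k)
  have hq : Function.Surjective q := fun v => by
    choose w hw using fun i => hg (v i)
    exact ⟨w, funext hw⟩
  letI : Module P M := Module.compHom M g.toRingHom
  haveI : IsScalarTower P S M := IsScalarTower.of_algebraMap_smul fun _ _ => rfl
  haveI : IsScalarTower R P M := IsScalarTower.of_algebraMap_smul fun r m => by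
    show g (algebraMap R P r) • m = r • m
    rw [g.commutes, algebraMap_smul]
  let f : (Fin k → P) →ₗ[P] M := (π.restrictScalars P).comp q
  obtain ⟨a, ha, hfree, N₀, hN₀, hle, htor⟩ := exists_freeAt_quotient (LinearMap.ker f)
  obtain ⟨T, hT⟩ := hN₀
  refine ⟨a, ha, hfree.of_linearEquiv ((f.quotKerEquivOfSurjective (hπ.comp hq)).restrictScalars R), k,
    Submodule.span S (q '' (T : Set (Fin k → P))), π, Submodule.fg_span (T.finite_toSet.image _),
    Submodule.span_le.mpr ?_, hπ, fun x hx => ?_⟩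
  · rintro _ ⟨t, ht, rfl⟩
    exact hle (hT ▸ Submodule.subset_span ht : t ∈ N₀)
  · obtain ⟨y, rfl⟩ := hq x
    obtain ⟨n, hn⟩ := htor y hx
    refine ⟨n, ?_⟩
    have h := Submodule.mem_map_of_mem (f := q) hn
    rw [← hT, Submodule.map_span, LinearMap.map_smul_of_tower] at h
    exact Submodule.span_le_restrictScalars P S _ h

end Groth.GenFree
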