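import Mathlib
import Groth.Agent.GenFree.Domain

/-!
# Generic freeness with finite presentation, packaged
-/

universe u

open TensorProduct MvPolynomial

namespace Groth.GenFree

theorem isLocalizedModule_mk {R : Type u} [CommRing R] (S : Submonoid R) (A : Type u) [CommRing A] [Algebra R A]
    [IsLocalization S A] (M : Type u) [AddCommGroup M] [Module R M] :
    IsLocalizedModule S (TensorProduct.mk R A M 1) :=
  (isLocalizedModule_iff_isBaseChange S A _).mpr (TensorProduct.isBaseChange R M A)

theorem finitePresentation_of_bijective {R A B : Type u} [CommRing R] [CommRing A] [CommRing B] [Algebra R A]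
    [Algebra R B] [Algebra.FinitePresentation R A] (f : A →ₐ[R] B) (hf : Function.Bijective f) :
    Algebra.FinitePresentation R B :=
  Algebra.FinitePresentation.equiv (AlgEquiv.ofBijective f hf)

variable {R : Type u} [CommRing R] [IsDomain R] {S : Type u} [CommRing S] [Algebra R S] [Algebra.FiniteType R S]

/-- A finite type algebra over a domain becomes finitely presented and free after inverting `a`. -/
theorem exists_algebra_freeAt (R S : Type u) [CommRing R] [IsDomain R] [CommRing S] [Algebra R S]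
    [Algebra.FiniteType R S] : ∃ a : R, a ≠ 0 ∧ FreeAt a S ∧ ∀ b : R, a ∣ b →
      Algebra.FinitePresentation (Localization.Away b) (Localization.Away b ⊗[R] S) := by
  obtain ⟨σn, g, hg⟩ := Algebra.FiniteType.iff_quotient_mvPolynomial''.mp ‹Algebra.FiniteType R S›
  let P := MvPolynomial (Fin σn) R
  let p₀ : (Fin 1 → P) →ₗ[P] P := LinearMap.proj 0
  let N : Submodule P (Fin 1 → P) := Submodule.comap p₀ (RingHom.ker g.toRingHom)
  obtain ⟨a, ha, hfree, N₀, hN₀, hle, htor⟩ := exists_freeAt_quotient N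
  let f : (Fin 1 → P) →ₗ[R] S := g.toLinearMap.comp (p₀.restrictScalars R)
  have hf : Function.Surjective f := fun s => by
    obtain ⟨p, rfl⟩ := hg s
    exact ⟨fun _ => p, rfl⟩
  have hfree' : FreeAt a S := hfree.of_linearEquiv
    ((Submodule.Quotient.restrictScalarsEquiv R N).symm ≪≫ₗ
      Submodule.quotEquivOfEq _ _ (by ext v; rfl) ≪≫ₗ f.quotKerEquivOfSurjective hf)
  refine ⟨a, ha, hfree', fun b hb => ?_⟩
  let I₀ : Ideal P := N₀.map p₀
  have hI₀ : I₀.FG := hN₀.map p₀
  have hI₀le : I₀ ≤ RingHom.ker g.toRingHom := Submodule.map_le_iff_le_comap.mpr hle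
  let π : (P ⧸ I₀) →ₐ[R] S := Ideal.Quotient.liftₐ I₀ g fun x hx => hI₀le hx
  haveI : Algebra.FinitePresentation R (P ⧸ I₀) := Algebra.FinitePresentation.quotient hI₀
  have hπ : Function.Surjective π := fun s => by
    obtain ⟨p, rfl⟩ := hg s
    exact ⟨Ideal.Quotient.mk I₀ p, rfl⟩
  have hπker : ∀ x, π.toLinearMap x = 0 → ∃ s : Submonoid.powers b, s • x = 0 := by
    intro x hx
    obtain ⟨p, rfl⟩ := Ideal.Quotient.mk_surjective x
    obtain ⟨n, hn⟩ := htor (fun _ => p) hx
    obtain ⟨c, rfl⟩ := hb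
    refine ⟨⟨(a * c) ^ n, n, rfl⟩, ?_⟩
    show (a * c) ^ n • (Ideal.Quotient.mkₐ R I₀ p) = 0
    rw [mul_pow, mul_comm, mul_smul, ← map_smul]
    refine smul_eq_zero_of_right _ (Ideal.Quotient.eq_zero_iff_mem.mpr ?_)
    exact ⟨a ^ n • fun _ => p, hn, rfl⟩
  let Rb := Localization.Away b
  haveI : IsLocalizedModule (Submonoid.powers b) (TensorProduct.mk R Rb S 1) := isLocalizedModule_mk _ _ _
  haveI := isLocalizedModule_comp_of_surjective (Submonoid.powers b) π.toLinearMap hπ hπker (TensorProduct.mk R Rb S 1)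
  haveI : IsLocalizedModule (Submonoid.powers b) (TensorProduct.mk R Rb (P ⧸ I₀) 1) := isLocalizedModule_mk _ _ _
  let e := IsLocalizedModule.linearEquiv (Submonoid.powers b) (TensorProduct.mk R Rb (P ⧸ I₀) 1)
    ((TensorProduct.mk R Rb S 1).comp π.toLinearMap)
  let ψ : (Rb ⊗[R] (P ⧸ I₀)) →ₐ[Rb] (Rb ⊗[R] S) := Algebra.TensorProduct.map (AlgHom.id Rb Rb) π
  have hψ : ψ.toLinearMap.restrictScalars R = e.toLinearMap :=
    IsLocalizedModule.ext (Submonoid.powers b) (TensorProduct.mk R Rb (P ⧸ I₀) 1)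
      (fun s => IsLocalizedModule.map_units (TensorProduct.mk R Rb S 1) s) (LinearMap.ext fun x => by
        refine Eq.trans ?_ (IsLocalizedModule.linearEquiv_apply (Submonoid.powers b) (TensorProduct.mk R Rb (P ⧸ I₀) 1)
          ((TensorProduct.mk R Rb S 1).comp π.toLinearMap) x).symm
        exact Algebra.TensorProduct.map_tmul (AlgHom.id Rb Rb) π (1 : Rb) x)
  have hbij : Function.Bijective ψ := by
    have h2 : ⇑ψ = ⇑e := funext fun x => LinearMap.congr_fun hψ x
    rw [h2]
    exact e.bijective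
  exact @finitePresentation_of_bijective Rb (Rb ⊗[R] (P ⧸ I₀)) (Rb ⊗[R] S) _ _ _ _ _ inferInstance ψ hbij

theorem free_tensor {M : Type u} [AddCommGroup M] [Module R M] {a b : R} (hab : a ∣ b) (h : FreeAt a M) :
    Module.Free (Localization.Away b) (Localization.Away b ⊗[R] M) := by
  haveI := isLocalizedModule_mk (Submonoid.powers b) (Localization.Away b) M
  exact (h.of_dvd hab).free (Localization.Away b) (TensorProduct.mk R (Localization.Away b) M 1)

theorem free_localizedModule {M : Type u} [AddCommGroup M] [Module R M] {a b : R} (hab : a ∣ b) (h : FreeAt a M) :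
    Module.Free (Localization.Away b) (LocalizedModule (Submonoid.powers b) M) :=
  (h.of_dvd hab).free (Localization.Away b) (LocalizedModule.mkLinearMap (Submonoid.powers b) M)

theorem finitePresentation_localizedModule (M : Type u) [AddCommGroup M] [Module S M] [Module R M]
    [IsScalarTower R S M] [Module.Finite S M] : ∃ a : R, a ≠ 0 ∧ FreeAt a M ∧ ∀ b : R, a ∣ b →
      Module.FinitePresentation (Localization.Away (algebraMap R S b))
        (LocalizedModule (Submonoid.powers (algebraMap R S b)) M) := by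
  obtain ⟨a, ha, hfree, k, N₁, π, hN₁, hle, hπ, htor⟩ := exists_freeAt_domain (R := R) S M
  refine ⟨a, ha, hfree, fun b hb => ?_⟩
  haveI : Module.FinitePresentation S ((Fin k → S) ⧸ N₁) :=
    Module.finitePresentation_of_surjective N₁.mkQ N₁.mkQ_surjective (by rwa [Submodule.ker_mkQ])
  let π₁ : ((Fin k → S) ⧸ N₁) →ₗ[S] M := N₁.liftQ π hle
  have hker : ∀ x, π₁ x = 0 → ∃ s : Submonoid.powers (algebraMap R S b), s • x = 0 := by
    intro x hx
    obtain ⟨x, rfl⟩ := Submodule.Quotient.mk_surjective _ x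
    obtain ⟨n, hn⟩ := htor x hx
    obtain ⟨c, rfl⟩ := hb
    refine ⟨⟨algebraMap R S (a * c) ^ n, n, rfl⟩, ?_⟩
    show algebraMap R S (a * c) ^ n • (Submodule.Quotient.mk x : (Fin k → S) ⧸ N₁) = 0
    rw [← Submodule.Quotient.mk_smul, Submodule.Quotient.mk_eq_zero, ← map_pow, algebraMap_smul, mul_pow, mul_comm,
      mul_smul]
    exact N₁.smul_of_tower_mem _ hn
  have hπ₁ : Function.Surjective π₁ := fun m => by
    obtain ⟨x, rfl⟩ := hπ m
    exact ⟨Submodule.Quotient.mk x, rfl⟩
  let g := LocalizedModule.mkLinearMap (Submonoid.powers (algebraMap R S b)) M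
  haveI := isLocalizedModule_comp_of_surjective (Submonoid.powers (algebraMap R S b)) π₁ hπ₁ hker g
  exact FinitePresentation.of_isBaseChange (g.comp π₁)
    (IsLocalizedModule.isBaseChange (Submonoid.powers (algebraMap R S b)) (Localization.Away (algebraMap R S b)) _)

end Groth.GenFree
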