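import Groth.Agent.GenFree.Basic

/-!
Relative generic freeness: `M / N'` for a finite `A[X₁..Xₙ]`-module `M` and a finite `A`-submodule `N'`.
-/

universe u

namespace Groth.GenFree

open Polynomial

variable {D : Type u} [CommRing D]

theorem FreeAt.extension {a : D} {Q : Type u} [AddCommGroup Q] [Module D Q] (P : Submodule D Q)
    (h1 : FreeAt a P) (h2 : FreeAt a (Q ⧸ P)) : FreeAt a Q := by
  obtain ⟨ι, e, he, he'⟩ := h1
  obtain ⟨κ, f, hf, hf'⟩ := h2
  choose g hg using fun k => Submodule.Quotient.mk_surjective P (f k)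
  have hgf : P.mkQ ∘ g = f := funext hg
  have hli : LinearIndependent D (Sum.elim (fun i => (e i : Q)) g) := by
    exact LinearIndependent.sumElim_of_quotient he g (hgf ▸ hf)
  refine ⟨ι ⊕ κ, _, hli, fun m => ?_⟩
  obtain ⟨n, hn⟩ := hf' (P.mkQ m)
  rw [← hgf, Set.range_comp, ← Submodule.map_span] at hn
  obtain ⟨y, hy, hye⟩ := hn
  have hP : a ^ n • m - y ∈ P := (Submodule.Quotient.eq P).1 (hye.trans (by rw [← map_smul]; rfl)).symm
  obtain ⟨n', hn'⟩ := he' ⟨_, hP⟩
  refine ⟨n' + n, ?_⟩
  rw [pow_add, mul_smul, ← sub_add_cancel (a ^ n • m) y, smul_add]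
  refine add_mem ?_ (Submodule.smul_mem _ _ (Submodule.span_mono ?_ hy))
  · have h := Submodule.mem_map_of_mem (f := P.subtype) hn'
    rw [Submodule.map_span, ← Set.range_comp] at h
    refine Submodule.span_mono ?_ h
    rintro _ ⟨i, rfl⟩
    exact ⟨Sum.inl i, rfl⟩
  · rintro _ ⟨k, rfl⟩
    exact ⟨Sum.inr k, rfl⟩

/-- Generic freeness of `M / L`, `L` a finite `A`-submodule generating the `A[X]`-module `M`. -/
theorem Good.polynomial_quotient [IsDomain D] {A : Type u} [CommRing A] [IsNoetherianRing A] [Algebra D A]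
    (h : Good D A) (M : Type u) [AddCommGroup M] [Module A[X] M] [Module A M] [Module D M]
    [IsScalarTower A A[X] M] [IsScalarTower D A M] (G : Finset M)
    (hG : Submodule.span A[X] (G : Set M) = ⊤) :
    ∃ a : D, a ≠ 0 ∧ FreeAt a (M ⧸ (Submodule.span A (G : Set M)).restrictScalars D) := by
  classical
  haveI : IsScalarTower D A[X] M := IsScalarTower.of_algebraMap_smul fun d m => by
    rw [IsScalarTower.algebraMap_apply D A A[X], algebraMap_smul, algebraMap_smul]
  let L : Submodule A M := Submodule.span A (G : Set M)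
  haveI : Module.Finite A L := ⟨(Submodule.fg_top _).mpr ⟨G, rfl⟩⟩
  haveI : IsNoetherian A L := isNoetherian_of_isNoetherianRing_of_finite A L
  let μ : ℕ → M →ₗ[A] M := fun j => (LinearMap.lsmul A[X] M ((X : A[X]) ^ j)).restrictScalars A
  let W : ℕ → Submodule A M := fun k => ⨆ i ∈ Finset.range k, L.map (μ i)
  have hWmono : Monotone W := fun k l hkl => biSup_mono fun i hi =>
    Finset.mem_range.mpr (lt_of_lt_of_le (Finset.mem_range.mp hi) hkl)
  have hWsucc : ∀ k, W (k + 1) = W k ⊔ L.map (μ k) := fun k => by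
    show (⨆ i ∈ Finset.range (k + 1), L.map (μ i)) = _
    rw [Finset.range_add_one, Finset.iSup_insert, sup_comm]
  have hmemW : ∀ j, ∀ v ∈ L, (X : A[X]) ^ j • v ∈ W (j + 1) := fun j v hv => by
    rw [hWsucc]
    exact Submodule.mem_sup_right ⟨v, hv, rfl⟩
  have hLW : ∀ j, L ≤ W (j + 1) := fun j v hv => hWmono (by omega : 1 ≤ j + 1) (by
    simpa using hmemW 0 v hv)
  have hW1 : W 1 ≤ L := by
    refine iSup₂_le fun i hi => ?_
    obtain rfl : i = 0 := by simpa using hi
    rintro _ ⟨v, hv, rfl⟩
    simpa [μ] using hv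
  have hX : ∀ k, ∀ m ∈ W k, (X : A[X]) • m ∈ W (k + 1) := by
    intro k
    induction k with
    | zero =>
      intro m hm
      simp only [W, Finset.range_zero, Submodule.mem_bot, Finset.notMem_empty,
        iSup_false, iSup_bot] at hm
      rw [hm, smul_zero]
      exact zero_mem _
    | succ k ih =>
      intro m hm
      rw [hWsucc] at hm
      obtain ⟨x, hx, y, ⟨v, hv, rfl⟩, rfl⟩ := Submodule.mem_sup.mp hm
      rw [smul_add]
      refine add_mem (hWmono (Nat.le_succ _) (ih x hx)) ?_
      show (X : A[X]) • ((X : A[X]) ^ k • v) ∈ _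
      rw [smul_smul, ← pow_succ']
      exact hmemW (k + 1) v hv
  let Wtop : Submodule A[X] M :=
    { carrier := {m | ∃ k, m ∈ W k}
      zero_mem' := ⟨0, zero_mem _⟩
      add_mem' := fun {x y} hx hy => by
        obtain ⟨k, hk⟩ := hx
        obtain ⟨l, hl⟩ := hy
        exact ⟨max k l, add_mem (hWmono (le_max_left k l) hk) (hWmono (le_max_right k l) hl)⟩
      smul_mem' := fun p m hm => by
        induction p using Polynomial.induction_on with
        | C c =>
          obtain ⟨k, hk⟩ := hm
          refine ⟨k, ?_⟩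
          rw [← Polynomial.algebraMap_eq, algebraMap_smul]
          exact (W k).smul_mem c hk
        | add p q hp hq =>
          obtain ⟨k, hk⟩ := hp
          obtain ⟨l, hl⟩ := hq
          refine ⟨max k l, ?_⟩
          rw [add_smul]
          exact add_mem (hWmono (le_max_left k l) hk) (hWmono (le_max_right k l) hl)
        | monomial n c hc =>
          obtain ⟨k, hk⟩ := hc
          refine ⟨k + 1, ?_⟩
          rw [show Polynomial.C c * X ^ (n + 1) = X * (Polynomial.C c * X ^ n) by ring, mul_smul]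
          exact hX k _ hk }
  have htop : ∀ m, ∃ k, m ∈ W k := fun m => by
    have : (⊤ : Submodule A[X] M) ≤ Wtop := by
      rw [← hG]
      exact Submodule.span_le.mpr fun g hg => ⟨1, by
        have h := hmemW 0 g (Submodule.subset_span hg)
        rwa [pow_zero, one_smul] at h⟩
    exact this (Submodule.mem_top (x := m))
  let φ : ∀ j, L →ₗ[A] M ⧸ W j := fun j => (W j).mkQ.comp ((μ j).comp L.subtype)
  have hker : Monotone fun j => LinearMap.ker (φ j) := monotone_nat_of_le_succ fun j v hv => by
    rw [LinearMap.mem_ker] at hv ⊢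
    have h1 : (X : A[X]) ^ j • (v : M) ∈ W j := (Submodule.Quotient.mk_eq_zero _).mp hv
    refine (Submodule.Quotient.mk_eq_zero _).mpr ?_
    show (X : A[X]) ^ (j + 1) • (v : M) ∈ W (j + 1)
    rw [pow_succ', mul_smul]
    exact hX j _ h1
  obtain ⟨j₀, hj₀⟩ := monotone_stabilizes_iff_noetherian.mpr (inferInstance : IsNoetherian A L)
    ⟨fun j => LinearMap.ker (φ j), hker⟩
  have hj₀' : ∀ j, LinearMap.ker (φ j) = LinearMap.ker (φ (min j j₀)) := fun j => by
    rcases le_total j j₀ with hj | hj
    · rw [min_eq_left hj]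
    · rw [min_eq_right hj]
      exact (hj₀ j hj).symm
  choose a ha ι e hli hsp using fun j : Fin (j₀ + 1) => h (L ⧸ LinearMap.ker (φ j))
  choose v hv using fun (j : Fin (j₀ + 1)) (i : ι j) => Submodule.Quotient.mk_surjective _ (e j i)
  let aTot : D := ∏ j, a j
  let idx : ℕ → Fin (j₀ + 1) := fun j => ⟨min (j + 1) j₀, Nat.lt_succ_of_le (min_le_right _ _)⟩
  let L' : Submodule D M := L.restrictScalars D
  let N : ℕ → Submodule D (M ⧸ L') := fun j => ((W (j + 1)).restrictScalars D).map L'.mkQ
  have hmemN : ∀ j m, L'.mkQ m ∈ N j → m ∈ W (j + 1) := by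
    rintro j m ⟨w, hw, hwe⟩
    have := hLW j ((Submodule.Quotient.eq L').1 hwe)
    have h2 := sub_mem hw this
    rwa [sub_sub_cancel] at h2
  refine ⟨aTot, Finset.prod_ne_zero_iff.mpr fun j _ => ha j,
    freeAt_of_chain N (fun k l hkl => Submodule.map_mono (fun _ hz => hWmono (by omega) hz)) ?_ ?_
      (ι := fun j => ι (idx j)) (fun j i => L'.mkQ ((X : A[X]) ^ (j + 1) • (v (idx j) i : M)))
      (fun j i => Submodule.mem_map_of_mem (hmemW (j + 1) _ (v (idx j) i).2)) (fun j => ?_) (fun j m hm => ?_)⟩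
  · rw [eq_bot_iff]
    rintro _ ⟨w, hw, rfl⟩
    exact (Submodule.Quotient.mk_eq_zero L').2 (hW1 hw)
  · intro q
    obtain ⟨m, rfl⟩ := L'.mkQ_surjective q
    obtain ⟨k, hk⟩ := htop m
    exact ⟨k, Submodule.mem_map_of_mem (hWmono (Nat.le_succ k) hk)⟩
  · -- independence
    rw [linearIndependent_iff]
    intro l hl
    refine linearIndependent_iff.mp (hli (idx j)) l ?_
    have h1 : Finsupp.linearCombination D (fun i => (X : A[X]) ^ (j + 1) • (v (idx j) i : M)) l ∈ W (j + 1) := by
      refine hmemN j _ ?_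
      rw [← Submodule.Quotient.mk_eq_zero, ← Submodule.mkQ_apply, Finsupp.linearCombination_apply, Finsupp.sum,
        map_sum, map_sum]
      rw [Finsupp.linearCombination_apply, Finsupp.sum] at hl
      simpa using hl
    have h2 : (Finsupp.linearCombination D (v (idx j)) l : L) ∈ LinearMap.ker (φ (idx j).1) := by
      show _ ∈ LinearMap.ker (φ (min (j + 1) j₀))
      rw [← hj₀' (j + 1), LinearMap.mem_ker]
      refine (Submodule.Quotient.mk_eq_zero _).mpr ?_
      show (X : A[X]) ^ (j + 1) • ((Finsupp.linearCombination D (v (idx j)) l : L) : M) ∈ W (j + 1)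
      convert h1 using 1
      simp only [Finsupp.linearCombination_apply, Finsupp.sum, AddSubmonoidClass.coe_finsetSum, Finset.smul_sum,
        Submodule.coe_smul_of_tower]
      exact Finset.sum_congr rfl fun i _ => smul_comm _ _ _
    rw [← (Submodule.Quotient.mk_eq_zero (LinearMap.ker (φ (idx j).1))).mpr h2]
    simp only [Finsupp.linearCombination_apply, Finsupp.sum, ← Submodule.mkQ_apply, map_sum]
    exact Finset.sum_congr rfl fun i _ => by
      rw [← hv (idx j) i]; exact (Submodule.Quotient.mk_smul _ _ _).symm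
  · -- spanning
    obtain ⟨m, hm, rfl⟩ := hm
    have hm' : m ∈ W (j + 1) ⊔ L.map (μ (j + 1)) := by rw [← hWsucc]; exact hm
    obtain ⟨w, hw, y, ⟨x, hx, rfl⟩, rfl⟩ := Submodule.mem_sup.mp hm'
    obtain ⟨n, hn⟩ := hsp (idx j) (Submodule.Quotient.mk ⟨x, hx⟩)
    obtain ⟨c, hc⟩ := Finsupp.mem_span_range_iff_exists_finsupp.mp hn
    have h2 : (a (idx j)) ^ n • (⟨x, hx⟩ : L) - c.sum (fun i r => r • v (idx j) i) ∈
        LinearMap.ker (φ (idx j).1) := by
      rw [← Submodule.Quotient.mk_eq_zero, Submodule.Quotient.mk_sub, Submodule.Quotient.mk_smul, ← hc,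
        Finsupp.sum, Finsupp.sum, ← Submodule.mkQ_apply, map_sum, sub_eq_zero]
      exact Finset.sum_congr rfl fun i _ => by
        rw [← hv (idx j) i]; exact (Submodule.Quotient.mk_smul _ _ _).symm
    rw [show ((idx j).1) = min (j + 1) j₀ from rfl, ← hj₀' (j + 1), LinearMap.mem_ker] at h2
    have h3 := (Submodule.Quotient.mk_eq_zero _).mp h2
    have h4 : (X : A[X]) ^ (j + 1) • ((a (idx j)) ^ n • x - c.sum fun i r => r • (v (idx j) i : M)) ∈ W (j + 1) := by
      convert h3 using 1
      simp [μ, Finsupp.sum]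
    have h5 : (a (idx j)) ^ n • (w + μ (j + 1) x) ∈
        Submodule.span D (Set.range fun i => (X : A[X]) ^ (j + 1) • (v (idx j) i : M)) ⊔ (W (j + 1)).restrictScalars D := by
      rw [smul_add]
      refine add_mem (Submodule.mem_sup_right ((W (j + 1)).smul_of_tower_mem _ hw)) ?_
      show (a (idx j)) ^ n • ((X : A[X]) ^ (j + 1) • x) ∈ _
      rw [smul_comm, ← sub_add_cancel ((a (idx j)) ^ n • x) (c.sum fun i r => r • (v (idx j) i : M)), smul_add]
      refine add_mem (Submodule.mem_sup_right h4) (Submodule.mem_sup_left ?_)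
      rw [Finsupp.sum, Finset.smul_sum]
      exact Submodule.sum_mem _ fun i _ => by
        rw [smul_comm]; exact Submodule.smul_mem _ _ (Submodule.subset_span ⟨i, rfl⟩)
    refine ⟨n, ?_⟩
    obtain ⟨d, hd⟩ := Finset.dvd_prod_of_mem a (Finset.mem_univ (idx j))
    rw [show aTot = a (idx j) * d from hd, mul_pow, mul_comm, mul_smul]
    refine Submodule.smul_mem _ _ ?_
    have h6 := Submodule.mem_map_of_mem (f := L'.mkQ) h5
    rw [Submodule.map_sup, Submodule.map_span, ← Set.range_comp, map_smul] at h6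
    exact h6

/-- Relative generic freeness. -/
def RelGood (D A A' : Type u) [CommRing D] [CommRing A] [CommRing A'] [Algebra D A] [Algebra A A'] : Prop :=
  ∀ (M : Type u) [AddCommGroup M] [Module A' M] [Module A M] [Module D M] [IsScalarTower A A' M]
    [IsScalarTower D A M] [Module.Finite A' M] (N' : Submodule A M), N'.FG →
    ∃ a : D, a ≠ 0 ∧ FreeAt a (M ⧸ N'.restrictScalars D)

theorem RelGood.of_surjective {A A' B : Type u} [CommRing A] [CommRing A'] [CommRing B] [Algebra D A]
    [Algebra A A'] [Algebra A B] (φ : A' →ₐ[A] B) (hφ : Function.Surjective φ) (h : RelGood D A A') :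
    RelGood D A B := by
  intro M _ _ _ _ _ _ _ N' hN'
  letI : Module A' M := Module.compHom M φ.toRingHom
  haveI : IsScalarTower A A' M := IsScalarTower.of_algebraMap_smul fun d m => by
    show φ (algebraMap A A' d) • m = d • m
    rw [AlgHom.commutes, algebraMap_smul]
  haveI : Module.Finite A' M := by
    letI : Algebra A' B := φ.toRingHom.toAlgebra
    haveI : IsScalarTower A' B M := IsScalarTower.of_algebraMap_smul fun _ _ => rfl
    haveI : Module.Finite A' B := Module.Finite.of_surjective (Algebra.linearMap A' B) hφ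
    exact Module.Finite.trans B M
  exact h M N' hN'

theorem relGood_self {A : Type u} [CommRing A] [Algebra D A] (h : Good D A) : RelGood D A A := by
  intro M _ instA' instA _ _ _ _ N' _
  have hmod : ∀ (c : A) (m : M), (@HSMul.hSMul A M M (@instHSMul A M instA.toSMul) c m) =
      @HSMul.hSMul A M M (@instHSMul A M instA'.toSMul) c m := by
    intro c m
    have h := @IsScalarTower.smul_assoc A A M _ instA'.toSMul instA.toSMul ‹_› c (1 : A) m
    have h1 : @HSMul.hSMul A M M (@instHSMul A M instA'.toSMul) (1 : A) m = m := @one_smul A M _ instA'.toMulAction m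
    rw [h1] at h
    rw [← h, smul_eq_mul, mul_one]
  obtain rfl : instA = instA' := Module.ext' _ _ hmod
  obtain ⟨a, ha, hf⟩ := h (M ⧸ N')
  exact ⟨a, ha, hf.of_linearEquiv (Submodule.Quotient.restrictScalarsEquiv D N').symm⟩

theorem RelGood.polynomial [IsDomain D] {A A' : Type u} [CommRing A] [CommRing A'] [IsNoetherianRing A']
    [Algebra D A] [Algebra A A'] [Algebra D A'] [IsScalarTower D A A'] (hrel : RelGood D A A')
    (hgood : Good D A') : RelGood D A A'[X] := by
  intro M _ _ _ _ _ _ _ N' hN'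
  classical
  letI : Module A' M := Module.compHom M (Polynomial.C : A' →+* A'[X])
  haveI : IsScalarTower A' A'[X] M := IsScalarTower.of_algebraMap_smul fun _ _ => rfl
  haveI : IsScalarTower A A' M := IsScalarTower.of_algebraMap_smul fun d m => by
    show Polynomial.C (algebraMap A A' d) • m = d • m
    rw [← Polynomial.algebraMap_apply, algebraMap_smul]
  haveI : IsScalarTower D A' M := IsScalarTower.of_algebraMap_smul fun d m => by
    rw [IsScalarTower.algebraMap_apply D A A', algebraMap_smul, algebraMap_smul]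
  obtain ⟨G₀, hG₀⟩ := (Module.Finite.fg_top : (⊤ : Submodule A'[X] M).FG)
  obtain ⟨T, hT⟩ := hN'
  let G := G₀ ∪ T
  have hG : Submodule.span A'[X] (G : Set M) = ⊤ :=
    eq_top_iff.2 (hG₀.ge.trans (Submodule.span_mono (by simp [G])))
  obtain ⟨a₂, ha₂, h₂⟩ := hgood.polynomial_quotient M G hG
  let L : Submodule A' M := Submodule.span A' (G : Set M)
  haveI : Module.Finite A' L := ⟨(Submodule.fg_top _).mpr ⟨G, rfl⟩⟩
  have hNL : N' ≤ L.restrictScalars A := by
    rw [← hT]
    exact Submodule.span_le.2 fun t ht => Submodule.subset_span (by simp [G]; exact Or.inr ht)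
  let incl : L →ₗ[A] M := L.subtype.restrictScalars A
  have hincl : N' ≤ LinearMap.range incl := fun z hz => ⟨⟨z, hNL hz⟩, rfl⟩
  have hfg : (N'.comap incl).FG := by
    refine Submodule.fg_of_fg_map_injective incl Subtype.val_injective ?_
    rw [Submodule.map_comap_eq_self hincl]
    exact ⟨T, hT⟩
  obtain ⟨a₁, ha₁, h₁⟩ := hrel L (N'.comap incl) hfg
  let Q := M ⧸ N'.restrictScalars D
  let g : L →ₗ[D] Q := (N'.restrictScalars D).mkQ.comp (L.subtype.restrictScalars D)
  have hgker : LinearMap.ker g = (N'.comap incl).restrictScalars D := by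
    ext z
    exact Submodule.Quotient.mk_eq_zero _
  let P : Submodule D Q := LinearMap.range g
  let e₁ : (L ⧸ (N'.comap incl).restrictScalars D) ≃ₗ[D] P :=
    (Submodule.quotEquivOfEq _ _ hgker.symm).trans g.quotKerEquivRange
  let π : Q →ₗ[D] M ⧸ L.restrictScalars D :=
    (N'.restrictScalars D).liftQ (L.restrictScalars D).mkQ fun z hz => by
      rw [Submodule.ker_mkQ]; exact hNL hz
  have hπs : Function.Surjective π := fun y => by
    obtain ⟨m, rfl⟩ := (L.restrictScalars D).mkQ_surjective y
    exact ⟨(N'.restrictScalars D).mkQ m, rfl⟩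
  have hπker : LinearMap.ker π = P := by
    ext y
    obtain ⟨m, rfl⟩ := (N'.restrictScalars D).mkQ_surjective y
    rw [LinearMap.mem_ker, LinearMap.mem_range]
    show Submodule.Quotient.mk m = 0 ↔ _
    rw [Submodule.Quotient.mk_eq_zero]
    refine ⟨fun hm => ⟨⟨m, hm⟩, rfl⟩, fun ⟨z, hz⟩ => ?_⟩
    have : (z : M) - m ∈ L.restrictScalars D := hNL ((Submodule.Quotient.eq (N'.restrictScalars D)).1 hz)
    simpa using sub_mem (show (z : M) ∈ L.restrictScalars D from z.2) this
  let e₂ : (Q ⧸ P) ≃ₗ[D] M ⧸ L.restrictScalars D :=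
    (Submodule.quotEquivOfEq _ _ hπker.symm).trans (π.quotKerEquivOfSurjective hπs)
  exact ⟨a₁ * a₂, mul_ne_zero ha₁ ha₂, FreeAt.extension P ((h₁.of_linearEquiv e₁).mul a₂)
    ((h₂.of_linearEquiv e₂.symm).of_dvd (dvd_mul_left a₂ a₁))⟩

theorem relGood_mvPolynomial (D A : Type u) [CommRing D] [IsDomain D] [IsNoetherianRing D] [CommRing A]
    [Algebra D A] [Algebra.FiniteType D A] : ∀ n, RelGood D A (MvPolynomial (Fin n) A)
  | 0 => RelGood.of_surjective (MvPolynomial.isEmptyAlgEquiv A (Fin 0)).symm.toAlgHom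
      (MvPolynomial.isEmptyAlgEquiv A (Fin 0)).symm.surjective
      (relGood_self fun M _ _ _ _ _ => exists_freeAt D (B := A) M)
  | n + 1 => by
      haveI : IsNoetherianRing A := Algebra.FiniteType.isNoetherianRing D A
      haveI : Algebra.FiniteType D (MvPolynomial (Fin n) A) := Algebra.FiniteType.trans (S := A) inferInstance inferInstance
      exact RelGood.of_surjective (MvPolynomial.finSuccEquiv A n).symm.toAlgHom
        (MvPolynomial.finSuccEquiv A n).symm.surjective
        ((relGood_mvPolynomial D A n).polynomial fun M _ _ _ _ _ => exists_freeAt D (B := MvPolynomial (Fin n) A) M)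

/-- Generic freeness of the cokernel of a map from a finite `A`-module to a finite `B`-module. -/
theorem exists_freeAt_quotient_relative (D : Type u) {A B : Type u} [CommRing D] [IsDomain D] [IsNoetherianRing D]
    [CommRing A] [CommRing B] [Algebra D A] [Algebra A B] [Algebra.FiniteType D A] [Algebra.FiniteType A B]
    {M : Type u} [AddCommGroup M] [Module B M] [Module A M] [Module D M] [IsScalarTower A B M]
    [IsScalarTower D A M] [Module.Finite B M] (N' : Submodule A M) (hN' : N'.FG) :
    ∃ a : D, a ≠ 0 ∧ FreeAt a (M ⧸ N'.restrictScalars D) := by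
  obtain ⟨n, f, hf⟩ := Algebra.FiniteType.iff_quotient_mvPolynomial''.mp ‹Algebra.FiniteType A B›
  exact (RelGood.of_surjective f hf (relGood_mvPolynomial D A n)) M N' hN'

end Groth.GenFree
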